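import Cfsg.Agent.H688.RG.Red
import Cfsg.Agent.H386.Rg.D2
import Cfsg.Agent.H783.CS.Iso
import Cfsg.Agent.H383.Cov.TenEl
import Cfsg.Agent.H955.QClass

/-!
# S3691, residual case F-D+2, `m = 5`, `q` even (helper688)

`five` : the frame `D2 Q 2 f 5 K` is impossible.
-/

set_option autoImplicit false
set_option linter.unusedSectionVars false

namespace Cfsg.Agent.H688.RG

open Cfsg Cfsg.Geo Module Matrix QuadraticMap
open Cfsg.Agent.H420.Lift (opHom opHom_apply)
open Cfsg.Agent.LieClassical.OrthCore (Nondeg)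
open Cfsg.Agent.H182.Sign (Sg sg_plusForm)
open Cfsg.Agent.H386.Rg (D2)
open scoped MatrixGroups

universe v

variable {F : Type} [Field F] [Finite F] {V : Type v} [AddCommGroup V] [Module F V] [FiniteDimensional F V]

/-- coordinates -/
noncomputable def toGL (b : Basis (Fin 10) F V) : (V ≃ₗ[F] V) →* GL (Fin 10) F :=
  (Units.map ((LinearMap.toMatrixAlgEquiv b : Module.End F V ≃ₐ[F] Matrix (Fin 10) (Fin 10) F) : Module.End F V →* Matrix (Fin 10) (Fin 10) F)).comp
    (LinearMap.GeneralLinearGroup.generalLinearEquiv F V).symm.toMonoidHom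

theorem toGL_mulVec (b : Basis (Fin 10) F V) (k : V ≃ₗ[F] V) (w : V) :
    (toGL b k : Matrix (Fin 10) (Fin 10) F) *ᵥ (b.equivFun w) = b.equivFun (k w) := by
  have := LinearMap.toMatrix_mulVec_repr b b (k : V →ₗ[F] V) w
  exact this

theorem toGL_injective (b : Basis (Fin 10) F V) : Function.Injective (toGL b) := by
  intro k k' h
  apply LinearEquiv.ext
  intro w
  apply b.equivFun.injective
  rw [← toGL_mulVec, ← toGL_mulVec, h]

theorem five (hR : H383.Cov.Ten.S5848Stmt) (hS : S5794Stmt) {Q : QuadraticForm F V} {f : ℕ} {K : Subgroup (V ≃ₗ[F] V)}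
    (h : D2 Q 2 f 5 K) : False := by
  classical
  let := Fintype.ofFinite F
  have hVf : Finite V := Module.finite_of_finite F
  have hF : Fintype.card F = 2 ^ f := by rw [← Nat.card_eq_fintype_card]; exact h.hF
  have hf : 3 ≤ f := by
    have := h.size.1 rfl
    by_contra hcon
    have h1 : 2 ^ f ≤ 2 ^ 2 := Nat.pow_le_pow_right (by norm_num) (by omega)
    omega
  have h2 := two_eq_zero (F := F) (f := f) (by omega) hF
  let b : Basis (Fin 10) F V := finBasisOfFinrankEq F V (by rw [h.dim])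
  let e : V ≃ₗ[F] (Fin 10 → F) := b.equivFun
  let Q' : QuadraticForm F (Fin 10 → F) := Q.comp (e.symm : (Fin 10 → F) →ₗ[F] V)
  have hQe : ∀ v, Q' (e v) = Q v := fun v => by
    change Q (e.symm (e v)) = Q v
    rw [e.symm_apply_apply]
  have hQnd : Nondeg Q := h.nd
  have hnd : Nondeg Q' := H182.Sign.nondeg_congr hQnd e hQe
  have hQ := H925.isND_of_nondeg hnd
  have hplus : IsPlusTypeOn (⇑Q') ⊤ := by
    obtain ⟨W, hW, hWd⟩ := h.plus
    refine ⟨W.map (e : V →ₗ[F] (Fin 10 → F)), le_top, ?_, ?_⟩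
    · rintro _ ⟨w, hw, rfl⟩
      exact (hQe w).trans (hW w hw)
    · rw [LinearEquiv.finrank_map_eq, hWd, finrank_top, Module.finrank_fintype_fun_eq_card, Fintype.card_fin]
  have hsg : Sg Q' 5 1 := by
    obtain ⟨U, -, hU0, hd⟩ := hplus
    have h1 : H955.IsPlus Q' := ⟨U, fun u hu => hU0 u hu, by rw [hd, finrank_top]⟩
    obtain ⟨e', he'⟩ := H955.exists_plus_equiv 5 Q' hnd (by rw [Module.finrank_fintype_fun_eq_card, Fintype.card_fin]) h1
    refine (sg_plusForm (F := F) 5).congr e'.symm fun v => ?_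
    rw [← he', e'.apply_symm_apply, H403.Classify.plusForm_eq]
  have hnd' : (polarBilin Q').Nondegenerate := LieClassical.OmegaReindex.nondegenerate_of_left _ hnd
  have hiso : ∀ k ∈ K, ∀ v, Q' ((toGL b k : Matrix (Fin 10) (Fin 10) F) *ᵥ v) = Q' v := by
    intro k hk v
    obtain ⟨w, rfl⟩ := e.surjective v
    have h1 : (toGL b k : Matrix (Fin 10) (Fin 10) F) *ᵥ (e w) = e (k w) := toGL_mulVec b k w
    rw [h1, hQe, hQe, h.iso k hk]
  have hle : K.map (toGL b) ≤ omegaGL ⇑Q' := by
    rintro _ ⟨k, hk, rfl⟩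
    let g : isometryGroup F ⇑Q' := ⟨toGL b k, H925.mem_iso_iff.2 (hiso k hk)⟩
    refine ⟨g, ?_, rfl⟩
    refine H783.CS.mem_omega_of_even h2 hnd' (by rw [Fintype.card_fin]; norm_num) (by rw [Fintype.card_fin]; decide) ?_
    have h1 := h.even k hk
    have h3 : LinearMap.ker (opHom (⇑Q') g - 1) =
        (LinearMap.ker ((k : V →ₗ[F] V) - LinearMap.id)).map (e : V →ₗ[F] (Fin 10 → F)) := by
      ext v
      obtain ⟨w, rfl⟩ := e.surjective v
      rw [Submodule.mem_map_equiv, e.symm_apply_apply, LinearMap.mem_ker, LinearMap.mem_ker, LinearMap.sub_apply,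
        LinearMap.sub_apply, sub_eq_zero, sub_eq_zero, opHom_apply]
      have h5 : (toGL b k : Matrix (Fin 10) (Fin 10) F) *ᵥ (e w) = e (k w) := toGL_mulVec b k w
      change (toGL b k : Matrix (Fin 10) (Fin 10) F) *ᵥ (e w) = e w ↔ k w = w
      rw [h5]
      exact e.injective.eq_iff
    rw [h3, LinearEquiv.finrank_map_eq]
    have h6 := LinearMap.finrank_range_add_finrank_ker ((k : V →ₗ[F] V) - LinearMap.id)
    rw [h.dim] at h6
    obtain ⟨c, hc⟩ := h1
    exact ⟨5 - c, by omega⟩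
  have hcard : Nat.card (K.map (toGL b)) = Nat.card K :=
    Nat.card_congr (K.equivMapOfInjective _ (toGL_injective b)).toEquiv.symm
  have hN : ∃ c, Nat.card K * c = (2 ^ f) ^ 8 * (((2 ^ f) ^ 5 - 1) * ((2 ^ f) ^ 4 - 1)) ∧ c ≤ 4 * f * (2 ^ f + 1) := by
    obtain ⟨c, hc⟩ := h.card_dvd2 rfl
    have hc' : Nat.card K * c = (2 ^ f) ^ 8 * (((2 ^ f) ^ 5 - 1) * ((2 ^ f) ^ 4 - 1)) := by
      rw [← hc]
      norm_num [← pow_mul]
      ring
    refine ⟨c, hc', ?_⟩
    have h1 := h.card_ge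
    rw [hc] at h1
    have h3 : 0 < Nat.card K := by
      have : Finite K := by
        have := Finite.of_injective _ (toGL_injective b)
        infer_instance
      exact Nat.card_pos
    have h4 : Nat.card K * c ≤ Nat.card K * (4 * f * (2 ^ f + 1)) := by
      refine h1.trans (le_of_eq ?_)
      norm_num
      ring
    exact Nat.le_of_mul_le_mul_left h4 h3
  have hne : K.map (toGL b) ≠ omegaGL ⇑Q' := by
    intro he
    obtain ⟨l, hl⟩ := H689.exists_ppd (q := Fintype.card F) (k := 6) (by rw [hF]; exact (Nat.one_lt_two_pow (by omega)))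
      (by norm_num) (by
        rintro ⟨h1, -⟩
        rw [hF] at h1
        have : 2 ^ 3 ≤ 2 ^ f := Nat.pow_le_pow_right (by norm_num) hf
        omega)
    obtain ⟨s, hs⟩ := H689.exists_ppd (q := Fintype.card F) (k := 4) (by rw [hF]; exact (Nat.one_lt_two_pow (by omega)))
      (by norm_num) (by rintro ⟨-, h1⟩; omega)
    obtain ⟨B, hB, -, ⟨i, hi, -⟩, -⟩ := H383.Cov.Ten.exB hsg (Fintype.card_fin 10) hl hs
    rw [← he] at hB
    have h1 : l ∣ Nat.card K := by
      rw [← hcard, ← hi, ← Subgroup.orderOf_mk (B ^ i) ((K.map (toGL b)).pow_mem hB i)]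
      exact orderOf_dvd_natCard _
    obtain ⟨c, hc, -⟩ := hN
    have h3 : l ∣ (2 ^ f) ^ 8 * (((2 ^ f) ^ 5 - 1) * ((2 ^ f) ^ 4 - 1)) := by
      rw [← hc]
      exact h1.mul_right _
    rw [← hF] at h3
    rcases hl.prime.dvd_mul.1 h3 with h3 | h3
    · exact hl.not_dvd (hl.prime.dvd_of_dvd_pow h3)
    · rcases hl.prime.dvd_mul.1 h3 with h3 | h3
      · rw [hl.iff] at h3
        exact absurd h3 (by decide)
      · rw [hl.iff] at h3
        exact absurd h3 (by decide)
  have hdat : Dat f (⇑Q') (K.map (toGL b)) :=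
    { hf := hf
      hF := hF
      hQ := hQ
      plus := hplus
      lt := lt_of_le_of_ne hle hne
      card := by rw [hcard]; exact hN
      r5 := fun r hr => by
        rw [hcard]
        exact h.rdvd r hr.prime (Or.inl hr.ord)
      r4 := fun r hr => by
        rw [hcard]
        exact h.rdvd r hr.prime (Or.inr hr.ord) }
  exact hdat.false hR hS

end Cfsg.Agent.H688.RG

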