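import Cfsg.Agent.H688.RG.Five
import Cfsg.Agent.S5848
import Cfsg.Agent.S5794

/-!
# S3691, residual case F-D+2, `m = 5`, `q` even, unconditional (helper688)
-/

set_option autoImplicit false

namespace Cfsg.Agent.H688.RG

universe v

theorem five' {F : Type} [Field F] [Finite F] {V : Type v} [AddCommGroup V] [Module F V] [FiniteDimensional F V]
    {Q : QuadraticForm F V} {f : ℕ} {K : Subgroup (V ≃ₗ[F] V)} (h : H386.Rg.D2 Q 2 f 5 K) : False :=
  five (fun Q hQ hp H hH hS => S5848.result Q hQ hp H hH hS) (fun H hH hS => S5794.result H hH hS) h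

end Cfsg.Agent.H688.RG
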